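import Cfsg.Agent.Coset.O73.Simple
import Cfsg.Agent.Coset.O73.InFi22
import Cfsg.Agent.Coset.Fi22.Schur.Triple

/-! A perfect triple cover, inside the triple cover of `Cfsg.Spor.Fi22`. -/

set_option autoImplicit false
set_option maxRecDepth 100000
set_option Elab.async false

namespace CfsgLib.Coset.O73.Schur

open CfsgLib.Coset O73
open CfsgLib.Coset.Fi22.Schur (S3 LS om)

/-- The letters of the subdiagram. -/
def let8 : List Nat := [1, 2, 3, 4, 5, 6, 7, 8]

/-- The preimage. -/
noncomputable def K3 : Subgroup S3 := genBy LS let8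

theorem lv_rels : allList (fun w => cond (wordEq (w.map fun l => let8.getD l 9) Fi22.Schur.spiderP)
    true (Fi22.Schur.eqM (w.map fun l => let8.getD l 9) [])) rels = true := by
  decide +kernel

theorem coxE_rel : Fi22.Schur.eqM ((List.replicate 9 [1, 2, 3, 4, 5, 6, 7]).flatten) [] = true := by
  decide +kernel

theorem braid_checks : allList (fun e => Fi22.Schur.eqM [e.1, e.2, e.1] [e.2, e.1, e.2])
    [(1, 2), (2, 3), (3, 4), (3, 7), (4, 5), (5, 6), (7, 8)] = true ∧
      Fi22.Schur.eqM [1, 1] [] = true := by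
  constructor <;> decide +kernel

theorem spider_letters : Fi22.Schur.spiderP.all (fun l => let8.contains l) = true := by
  decide +kernel

theorem fl_mem {l : Nat} (h : l ∈ let8) : fl LS l ∈ K3 := by
  have := ev_mem_genBy (L := LS) let8 (w := [l]) (by simpa using h)
  simpa [K3] using this

theorem om_mem : om ∈ K3 :=
  ev_mem_genBy let8 fun l hl =>
    List.contains_iff_mem.mp (List.all_eq_true.mp spider_letters l hl)

theorem perfect : commutator K3 = ⊤ := by
  set f : K3 →* Abelianization K3 := Abelianization.of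
  let g : Nat → K3 := fun l => if h : l ∈ let8 then ⟨fl LS l, fl_mem h⟩ else 1
  have hg : ∀ l ∈ let8, ((g l : K3) : S3) = fl LS l := fun l h => by simp [g, h]
  have hb : ∀ a c, a ∈ let8 → c ∈ let8 → Fi22.Schur.eqM [a, c, a] [c, a, c] = true →
      f (g a) = f (g c) := by
    intro a c ha hc h
    have e := Fi22.Schur.LS_eq_of_eqM h
    simp only [ev_cons, ev_nil, mul_one] at e
    have e' : g a * (g c * g a) = g c * (g a * g c) := Subtype.ext (by
      simpa [hg a ha, hg c hc] using e)
    have := congrArg f e'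
    simp only [map_mul] at this
    calc f (g a) = f (g a) * (f (g c) * f (g a)) * (f (g c) * f (g a))⁻¹ := by group
      _ = f (g c) * (f (g a) * f (g c)) * (f (g c) * f (g a))⁻¹ := by rw [this]
      _ = f (g c) := by rw [mul_comm (f (g a)) (f (g c))]; group
  have b : ∀ a c, (a, c) ∈ [(1, 2), (2, 3), (3, 4), (3, 7), (4, 5), (5, 6), (7, 8)] →
      a ∈ let8 → c ∈ let8 → f (g a) = f (g c) := fun a c h ha hc =>
    hb a c ha hc (allList_iff.mp braid_checks.1 _ h)
  have b12 := b 1 2 (by simp) (by decide) (by decide)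
  have b23 := b 2 3 (by simp) (by decide) (by decide)
  have b34 := b 3 4 (by simp) (by decide) (by decide)
  have b37 := b 3 7 (by simp) (by decide) (by decide)
  have b45 := b 4 5 (by simp) (by decide) (by decide)
  have b56 := b 5 6 (by simp) (by decide) (by decide)
  have b78 := b 7 8 (by simp) (by decide) (by decide)
  have hall : ∀ l ∈ let8, f (g l) = f (g 1) := by
    intro l hl
    simp only [let8, List.mem_cons, List.not_mem_nil, or_false] at hl
    rcases hl with rfl | rfl | rfl | rfl | rfl | rfl | rfl | rfl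
    · rfl
    · exact b12.symm
    · exact (b12.trans b23).symm
    · exact (b12.trans (b23.trans b34)).symm
    · exact (b12.trans (b23.trans (b34.trans b45))).symm
    · exact (b12.trans (b23.trans (b34.trans (b45.trans b56)))).symm
    · exact (b12.trans (b23.trans b37)).symm
    · exact (b12.trans (b23.trans (b37.trans b78))).symm
  have hword : ∀ w : List Nat, (∀ l ∈ w, l ∈ let8) → ∃ x : K3, (x : S3) = ev LS w ∧
      f x = f (g 1) ^ w.length := by
    intro w
    induction w with
    | nil => intro _; exact ⟨1, by simp, by simp⟩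
    | cons l w ih =>
      intro h
      obtain ⟨x, hx, hf⟩ := ih fun a ha => h a (by simp [ha])
      refine ⟨g l * x, by simp [hg l (h l (by simp)), hx], ?_⟩
      rw [map_mul, hf, hall l (h l (by simp)), List.length_cons, pow_succ']
  have hrel : ∀ w : List Nat, (∀ l ∈ w, l ∈ let8) → Fi22.Schur.eqM w [] = true →
      f (g 1) ^ w.length = 1 := by
    intro w hw h
    obtain ⟨x, hx, hf⟩ := hword w hw
    rw [← hf, show x = 1 from Subtype.ext (by
      rw [hx, Fi22.Schur.LS_eq_of_eqM h, ev_nil]; rfl), map_one]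
  have h2 : f (g 1) ^ 2 = 1 := hrel [1, 1] (by decide) braid_checks.2
  have h63 : f (g 1) ^ 63 = 1 := hrel _ (by decide +kernel) coxE_rel
  have h1 : f (g 1) = 1 := by
    rw [show (63 : ℕ) = 2 * 31 + 1 from rfl, pow_succ, pow_mul, h2, one_pow, one_mul] at h63
    exact h63
  rw [eq_top_iff]
  rintro ⟨x, hx⟩ -
  show _ ∈ commutator K3
  rw [← Abelianization.ker_of, MonoidHom.mem_ker]
  induction hx using Subgroup.closure_induction with
  | mem y hy =>
    obtain ⟨l, hl, rfl⟩ := List.mem_map.mp hy
    exact (congrArg f (Subtype.ext (hg l hl).symm)).trans ((hall l hl).trans h1)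
  | one => exact map_one f
  | mul a b ha hb iha ihb =>
    rw [show (⟨a * b, _⟩ : K3) = ⟨a, ha⟩ * ⟨b, hb⟩ from rfl, map_mul, iha, ihb, one_mul]
  | inv a ha iha => rw [show (⟨a⁻¹, _⟩ : K3) = ⟨a, ha⟩⁻¹ from rfl, map_inv, iha, inv_one]

/-- The scalars in the preimage. -/
noncomputable abbrev Z3 : Subgroup K3 := Subgroup.zpowers (⟨om, om_mem⟩ : K3)

theorem om_center' : (⟨om, om_mem⟩ : K3) ∈ Subgroup.center K3 := Subgroup.mem_center_iff.mpr fun g =>
  Subtype.ext (Subgroup.mem_center_iff.mp Fi22.Schur.om_center (g : S3))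

instance normal_Z3 : (Z3).Normal := ⟨fun n hn g => by
  rw [Subgroup.mem_center_iff.mp ((Subgroup.zpowers_le.mpr om_center') hn) g, mul_inv_cancel_right]
  exact hn⟩

/-- The generators of the preimage. -/
noncomputable def LK : List K3 :=
  (List.range 8).map fun l => if h : let8.getD l 9 ∈ let8 then ⟨fl LS (let8.getD l 9), fl_mem h⟩ else 1

theorem coe_fl_LK (l : Nat) : ((fl LK l : K3) : S3) = fl LS (let8.getD l 9) := by
  rcases lt_or_ge l 8 with hl | hl
  · rw [fl, LK, List.getD_eq_getElem _ _ (by simpa using hl), List.getElem_map,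
      List.getElem_range, dif_pos]
    rw [List.getD_eq_getElem _ _ hl]
    exact List.getElem_mem _
  · rw [fl_of_le _ (by simpa [LK] using hl), List.getD_eq_default _ _ hl,
      fl_of_le _ (by simp [Fi22.Schur.LS])]
    rfl

theorem coe_ev_LK (w : List Nat) : ((ev LK w : K3) : S3) = ev LS (w.map fun l => let8.getD l 9) := by
  induction w with
  | nil => simp
  | cons l w ih => simp [ev_cons, coe_fl_LK, ih]

theorem map_rels : ∀ w ∈ rels, ev (LK.map (QuotientGroup.mk' Z3)) w = 1 := by
  intro w hw
  have hmap : ∀ v : List Nat, ev (LK.map (QuotientGroup.mk' Z3)) v = QuotientGroup.mk' Z3 (ev LK v) := by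
    intro v
    induction v with
    | nil => simp
    | cons l v ih =>
      rw [ev_cons, ev_cons, map_mul, ih]
      congr 1
      rw [fl, fl, ← List.getD_map (f := QuotientGroup.mk' Z3), map_one]
  rw [hmap, QuotientGroup.mk'_apply, QuotientGroup.eq_one_iff]
  have h := allList_iff.mp lv_rels w hw
  cases hs : wordEq (w.map fun l => let8.getD l 9) Fi22.Schur.spiderP
  · rw [hs, cond_false] at h
    rw [show ev LK w = 1 from Subtype.ext (by
      rw [coe_ev_LK, Fi22.Schur.LS_eq_of_eqM h, ev_nil]; rfl)]
    exact one_mem _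
  · rw [show ev LK w = ⟨om, om_mem⟩ from Subtype.ext (by rw [coe_ev_LK, eq_of_wordEq hs]; rfl)]
    exact Subgroup.mem_zpowers _

/-- The map from the presented group. -/
noncomputable def ψ3 : P →* K3 ⧸ Z3 := numHom (by simp [LK]) map_rels

theorem ψ3_bijective : Function.Bijective ψ3 := by
  have hsurj : Function.Surjective ψ3 := by
    rw [← MonoidHom.range_eq_top, eq_top_iff]
    rintro q -
    induction q using QuotientGroup.induction_on with
    | _ g =>
      obtain ⟨g, hg⟩ := g
      induction hg using Subgroup.closure_induction with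
      | mem y hy =>
        obtain ⟨l, hl, rfl⟩ := List.mem_map.mp hy
        obtain ⟨i, hi, rfl⟩ : ∃ i < 8, let8.getD i 9 = l := by
          simp only [let8, List.mem_cons, List.not_mem_nil, or_false] at hl
          refine ⟨l - 1, by omega, ?_⟩
          rcases hl with rfl | rfl | rfl | rfl | rfl | rfl | rfl | rfl <;> rfl
        refine ⟨fl Lp i, (numHom_fl _ map_rels i).trans ?_⟩
        rw [fl, List.getD_eq_getElem _ _ (by simpa [LK] using hi), List.getElem_map]
        refine congrArg QuotientGroup.mk (Subtype.ext ?_)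
        have e := coe_fl_LK i
        rw [fl, List.getD_eq_getElem _ _ (by simpa [LK] using hi)] at e
        exact e
      | one => exact one_mem _
      | mul a b _ _ ha hb => exact mul_mem ha hb
      | inv a _ ha => exact inv_mem ha
  refine ⟨?_, hsurj⟩
  rcases isSimple.eq_bot_or_eq_top_of_normal ψ3.ker inferInstance with h | h
  · exact (MonoidHom.ker_eq_bot_iff ψ3).mp h
  · exfalso
    have htop : Z3 = ⊤ := by
      rw [eq_top_iff]
      intro g _
      obtain ⟨y, hy⟩ := hsurj (QuotientGroup.mk g)
      rw [MonoidHom.mem_ker.mp (h ▸ Subgroup.mem_top y)] at hy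
      exact (QuotientGroup.eq_one_iff g).mp hy.symm
    have hcomm : commutator K3 = ⊥ := by
      rw [_root_.commutator_def, Subgroup.commutator_eq_bot_iff_le_centralizer]
      intro g _
      rw [Subgroup.mem_centralizer_iff]
      intro x _
      have hx : x ∈ Subgroup.center K3 :=
        (Subgroup.zpowers_le.mpr om_center') (htop ▸ Subgroup.mem_top x : x ∈ Z3)
      exact (Subgroup.mem_center_iff.mp hx g).symm
    rw [perfect] at hcomm
    have h1 : (⟨om, om_mem⟩ : K3) = 1 := Subgroup.mem_bot.mp (hcomm ▸ Subgroup.mem_top _)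
    exact Fi22.Schur.om_ne_one (congrArg Subtype.val h1)

/-- The triple covering map. -/
noncomputable def τ3 : K3 →* P :=
  (MulEquiv.ofBijective ψ3 ψ3_bijective).symm.toMonoidHom.comp (QuotientGroup.mk' Z3)

theorem τ3_facts : Function.Surjective τ3 ∧ τ3.ker ≤ Subgroup.center K3 ∧ Nat.card τ3.ker = 3 := by
  have hk : τ3.ker = Z3 := by
    ext x
    rw [MonoidHom.mem_ker, τ3, MonoidHom.comp_apply, ← QuotientGroup.eq_one_iff]
    exact (MulEquiv.ofBijective ψ3 ψ3_bijective).symm.map_eq_one_iff
  refine ⟨(MulEquiv.ofBijective ψ3 ψ3_bijective).symm.surjective.comp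
    (QuotientGroup.mk'_surjective Z3), hk ▸ Subgroup.zpowers_le.mpr om_center', ?_⟩
  rw [hk, Nat.card_zpowers, Subgroup.orderOf_mk, Fi22.Schur.orderOf_om]

end CfsgLib.Coset.O73.Schur
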