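import Cfsg.Agent.Coset.O73.Schur.Upper
import Mathlib.GroupTheory.QuotientGroup.Finite

/-! A perfect central extension has kernel of order at most six. -/

set_option autoImplicit false
set_option maxRecDepth 100000
set_option Elab.async false

namespace CfsgLib.Coset.O73.Schur

open CfsgLib.Coset O73
open scoped commutatorElement

universe u

variable {Γ : Type u} [Group Γ]

theorem normal_zpowers {z : Γ} (hz : z ∈ Subgroup.center Γ) : (Subgroup.zpowers z).Normal :=
  ⟨fun n hn g => by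
    rw [Subgroup.mem_center_iff.mp ((Subgroup.zpowers_le.mpr hz) hn) g, mul_inv_cancel_right]
    exact hn⟩

/-- Passage to a quotient by part of the kernel. -/
theorem quotient_facts {σ : Γ →* P} (hs : Function.Surjective σ) (hc : σ.ker ≤ Subgroup.center Γ)
    (hp : commutator Γ = ⊤) (N : Subgroup Γ) [N.Normal] (hle : N ≤ σ.ker) :
    Function.Surjective (QuotientGroup.lift N σ hle) ∧
      (QuotientGroup.lift N σ hle).ker ≤ Subgroup.center (Γ ⧸ N) ∧ commutator (Γ ⧸ N) = ⊤ := by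
  refine ⟨fun x => ?_, ?_, ?_⟩
  · obtain ⟨y, rfl⟩ := hs x
    exact ⟨QuotientGroup.mk y, rfl⟩
  · intro q hq
    obtain ⟨z, rfl⟩ := QuotientGroup.mk'_surjective N q
    refine Subgroup.mem_center_iff.mpr fun y => ?_
    obtain ⟨y, rfl⟩ := QuotientGroup.mk'_surjective N y
    have hz : z ∈ σ.ker := MonoidHom.mem_ker.mpr (MonoidHom.mem_ker.mp hq)
    rw [← map_mul, ← map_mul, Subgroup.mem_center_iff.mp (hc hz) y]
  · rw [_root_.commutator_def, ← Subgroup.map_top_of_surjective _ (QuotientGroup.mk'_surjective N),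
      ← Subgroup.map_commutator, ← _root_.commutator_def, hp]

theorem ev_map {Δ : Type*} [Group Δ] (f : Γ →* Δ) (X : List Γ) :
    (∀ l, fl (X.map f) l = f (fl X l)) ∧ ∀ w, ev (X.map f) w = f (ev X w) := by
  have h : ∀ l, fl (X.map f) l = f (fl X l) := fun l => by
    rw [fl, fl, ← List.getD_map (f := f), map_one]
  refine ⟨h, fun w => ?_⟩
  induction w with
  | nil => simp
  | cons l w ih => rw [ev_cons, ev_cons, map_mul, ih, h]

theorem ker_le_zpowers {σ : Γ →* P} (hs : Function.Surjective σ) (hc : σ.ker ≤ Subgroup.center Γ)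
    (hp : commutator Γ = ⊤) {z : Γ} {X : List Γ} (hz : σ z = 1) (hlen : X.length = 8)
    (himg : ∀ l < 8, σ (fl X l) = fl Lp l) (hrel : ∀ w ∈ rels, ev X w ∈ Subgroup.zpowers z) :
    σ.ker ≤ Subgroup.zpowers z := by
  set K0 := Subgroup.zpowers z
  have hzc : z ∈ Subgroup.center Γ := hc (MonoidHom.mem_ker.mpr hz)
  haveI := normal_zpowers hzc
  have hle : K0 ≤ σ.ker := Subgroup.zpowers_le.mpr (MonoidHom.mem_ker.mpr hz)
  obtain ⟨-, hτc, hτp⟩ := quotient_facts hs hc hp K0 hle
  obtain ⟨hfl, hev⟩ := ev_map (QuotientGroup.mk' K0) X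
  have hl : (X.map (QuotientGroup.mk' K0)).length = 8 := by simpa using hlen
  have hr : ∀ w ∈ rels, ev (X.map (QuotientGroup.mk' K0)) w = 1 := by
    intro w hw
    rw [hev, QuotientGroup.mk'_apply, QuotientGroup.eq_one_iff]
    exact hrel w hw
  let s : P →* Γ ⧸ K0 := numHom hl hr
  set τ := QuotientGroup.lift K0 σ hle
  have hsec : ∀ x, τ (s x) = x := by
    intro x
    have hx : x ∈ Subgroup.closure {y | y ∈ Lp} := closure_numGens ▸ Subgroup.mem_top x
    induction hx using Subgroup.closure_induction with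
    | mem y hy =>
      obtain ⟨l, hl', rfl⟩ := List.getElem_of_mem hy
      rw [← List.getD_eq_getElem Lp 1 hl']
      show τ (s (fl Lp l)) = fl Lp l
      rw [show s (fl Lp l) = _ from numHom_fl hl hr l, hfl]
      exact himg l (len_Lp ▸ hl')
    | one => simp
    | mul a b _ _ ha hb => rw [map_mul, map_mul, ha, hb]
    | inv a _ ha => rw [map_inv, map_inv, ha]
  have hdec : ∀ q : Γ ⧸ K0, ∃ x : P, ∃ k ∈ Subgroup.center (Γ ⧸ K0), q = s x * k := fun q =>
    ⟨τ q, (s (τ q))⁻¹ * q,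
      hτc (by rw [MonoidHom.mem_ker, map_mul, map_inv, hsec, inv_mul_cancel]), by group⟩
  have htop : s.range = ⊤ := by
    rw [eq_top_iff, ← hτp, _root_.commutator_def, Subgroup.commutator_le]
    intro a _ b _
    obtain ⟨x, k, hk, rfl⟩ := hdec a
    obtain ⟨y, m, hm, rfl⟩ := hdec b
    refine ⟨⁅x, y⁆, ?_⟩
    rw [map_commutatorElement, commutatorElement_def, commutatorElement_def]
    have ck := Subgroup.mem_center_iff.mp hk
    have cm := Subgroup.mem_center_iff.mp hm
    symm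
    calc s x * k * (s y * m) * (s x * k)⁻¹ * (s y * m)⁻¹
        = s x * (k * (s y * m)) * k⁻¹ * (s x)⁻¹ * m⁻¹ * (s y)⁻¹ := by group
      _ = s x * (s y * m * k) * k⁻¹ * (s x)⁻¹ * m⁻¹ * (s y)⁻¹ := by rw [ck (s y * m)]
      _ = s x * s y * (m * (s x)⁻¹) * m⁻¹ * (s y)⁻¹ := by group
      _ = s x * s y * ((s x)⁻¹ * m) * m⁻¹ * (s y)⁻¹ := by rw [cm (s x)⁻¹]
      _ = s x * s y * (s x)⁻¹ * (s y)⁻¹ := by group
  intro g hg
  obtain ⟨x, hx⟩ : (QuotientGroup.mk g : Γ ⧸ K0) ∈ s.range := htop ▸ Subgroup.mem_top _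
  have h1 : x = 1 := by
    rw [← hsec x, hx]
    exact MonoidHom.mem_ker.mp hg
  rw [h1, map_one] at hx
  exact (QuotientGroup.eq_one_iff g).mp hx.symm

theorem card_ker_le_six [Finite Γ] {σ : Γ →* P} (hs : Function.Surjective σ)
    (hc : σ.ker ≤ Subgroup.center Γ) (hp : commutator Γ = ⊤) : Nat.card σ.ker ≤ 6 := by
  obtain ⟨s, c, X, hX⟩ := exists_frame hs hc
  set N := Subgroup.zpowers c with hN
  haveI := normal_zpowers (hc (MonoidHom.mem_ker.mpr hX.c_mem))
  have hle : N ≤ σ.ker := Subgroup.zpowers_le.mpr (MonoidHom.mem_ker.mpr hX.c_mem)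
  obtain ⟨hτs, hτc, hτp⟩ := quotient_facts hs hc hp N hle
  set τ := QuotientGroup.lift N σ hle
  set π := QuotientGroup.mk' N
  obtain ⟨hfl, -⟩ := ev_map π X
  have hc1 : π c = 1 := (QuotientGroup.eq_one_iff c).mpr (Subgroup.mem_zpowers c)
  have hY : Frame τ (π s) 1 (X.map π) := by
    refine ⟨by simp [hX.len], fun l hl => by rw [hfl]; exact hX.img l hl, fun y => ?_,
      fun y => by simp, hX.s_mem, map_one τ, one_mul 1, fun a ha => ?_, fun a b h => ?_,
      fun a b ha hb hne h => ?_⟩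
    · obtain ⟨y, rfl⟩ := QuotientGroup.mk'_surjective N y
      rw [← map_mul, ← map_mul, hX.s_central]
    · rw [hfl, ← map_mul, hX.sq a ha]
    · rw [hfl, hfl, ← map_mul, ← map_mul, hX.braid a b h, map_mul, map_mul]
    · rw [hfl, hfl, ← map_mul, hX.comm a b ha hb hne h, map_mul, hc1, map_mul]
  obtain ⟨z, X', hz, hz3, hlen, himg, hrel⟩ := exists_lifts hτc hY
  have hK := ker_le_zpowers hτs hτc hτp hz hlen himg hrel
  have h3 : Nat.card τ.ker ≤ 3 := (Subgroup.card_le_of_le hK).trans (by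
    rw [Nat.card_zpowers]; exact orderOf_le_of_pow_eq_one (by norm_num) hz3)
  have h2 : Nat.card N ≤ 2 := by
    rw [hN, Nat.card_zpowers]; exact orderOf_le_of_pow_eq_one (by norm_num) (by rw [pow_two, hX.c_sq])
  have e1 : Nat.card σ.ker * Nat.card P = Nat.card Γ := by
    rw [← σ.ker.card_mul_index, Subgroup.index_ker, MonoidHom.range_eq_top.mpr hs, Subgroup.card_top]
  have e2 : Nat.card τ.ker * Nat.card P = Nat.card (Γ ⧸ N) := by
    rw [← τ.ker.card_mul_index, Subgroup.index_ker, MonoidHom.range_eq_top.mpr hτs, Subgroup.card_top]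
  have e3 := Subgroup.card_eq_card_quotient_mul_card_subgroup N
  rw [← e1, ← e2] at e3
  have hP := card_and_injective.1
  rw [hP] at e3
  have : Nat.card τ.ker * Nat.card N ≤ 3 * 2 := Nat.mul_le_mul h3 h2
  nlinarith

end CfsgLib.Coset.O73.Schur
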