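import Cfsg.Agent.Coset.O73.Schur.Frame
import Cfsg.Agent.Coset.O73.Schur.Data

/-!
The centraliser of a transposition is generated by transpositions commuting with it already in the
Coxeter group, so in an extension without sign the lifts of the transpositions are rigid.
-/

set_option autoImplicit false
set_option maxRecDepth 100000
set_option Elab.async false

namespace CfsgLib.Coset.O73.Schur

open CfsgLib.Coset O73

/-- The transposition. -/
noncomputable abbrev t : P := fl Lp 0

/-- A product of words from `KG`. -/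
def flK (w : List Nat) : List Nat := (w.map fun i => KG.getD i []).flatten

/-- A conjugate of a generator. -/
def tpW (p : List Nat × Nat) : List Nat := p.1 ++ [p.2] ++ p.1.reverse

/-- The code of a conjugate of the transposition. -/
noncomputable def keyC (i : Nat) : Nat :=
  [0, 96, 524].foldl (fun a b => Nat.add (Nat.mul a 4096)
    (follow (tget Top.Tb) b (tpW (conjs.getD i [], 0)))) 0

theorem keys_sorted : allBelow 9 350 (fun i => Nat.blt (keyC i) (keyC (Nat.add i 1))) = true := by
  decide +kernel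

theorem conjs_ok : checkLetters 8 conjs = true ∧ checkLetters 8 KG = true := by
  constructor <;> decide +kernel

theorem keyC_lt {i j : Nat} (hij : i < j) (hj : j < 351) : keyC i < keyC j := by
  induction j with
  | zero => omega
  | succ j ih =>
    have h : keyC j < keyC (j + 1) := Nat.blt_eq.mp (of_allBelow keys_sorted j (by omega))
    rcases Nat.lt_or_ge i j with h' | h'
    · exact (ih h' (by omega)).trans h
    · rwa [show i = j by omega]

theorem ev_Lp_rev (w : List Nat) : ev Lp w.reverse = (ev Lp w)⁻¹ := by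
  induction w with
  | nil => simp
  | cons l w ih =>
    rw [List.reverse_cons, ev_append, ih, ev_cons, ev_cons, ev_nil, mul_one, mul_inv_rev,
      inv_eq_of_mul_eq_one_right (sq_all l)]

theorem ev_tpW (p : List Nat × Nat) : ev Lp (tpW p) = ev Lp p.1 * fl Lp p.2 * (ev Lp p.1)⁻¹ := by
  rw [tpW, ev_append, ev_append, ev_Lp_rev, ev_cons, ev_nil, mul_one]

theorem key_eq {u v : List Nat} (hu : ∀ l ∈ u, l < (Lp).length) (hv : ∀ l ∈ v, l < (Lp).length)
    (h : ev Lp u = ev Lp v) (b : Fin 3159) :
    follow (tget Top.Tb) b u = follow (tget Top.Tb) b v := by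
  rw [← matches_ρ.follow_eq u b hu, ← matches_ρ.follow_eq v b hv, h]

theorem index_centralizer : 351 ≤ (Subgroup.centralizer ({t} : Set P)).index := by
  have := card_le.1
  let f : Fin 351 → P ⧸ Subgroup.centralizer ({t} : Set P) := fun i =>
    QuotientGroup.mk (ev Lp (conjs.getD i.val []))
  have hf : Function.Injective f := by
    intro i j h
    have h := Subgroup.mem_centralizer_singleton_iff.mp (QuotientGroup.eq.mp h)
    have e : ev Lp (tpW (conjs.getD i.val [], 0)) = ev Lp (tpW (conjs.getD j.val [], 0)) := by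
      rw [ev_tpW, ev_tpW]
      set a := ev Lp (conjs.getD i.val [])
      set b := ev Lp (conjs.getD j.val [])
      calc a * t * a⁻¹ = a * (t * (a⁻¹ * b)) * b⁻¹ := by group
        _ = a * ((a⁻¹ * b) * t) * b⁻¹ := by rw [h]
        _ = b * t * b⁻¹ := by group
    have hlt : ∀ k : Fin 351, ∀ l ∈ tpW (conjs.getD k.val [], 0), l < (Lp).length := by
      intro k l hl
      rw [len_Lp]
      simp only [tpW, List.mem_append, List.mem_reverse, List.mem_singleton] at hl
      rcases hl with (hl | hl) | hl
      · exact letters_getD conjs_ok.1 _ l hl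
      · omega
      · exact letters_getD conjs_ok.1 _ l hl
    have hk : keyC i.val = keyC j.val := by
      simp only [keyC, List.foldl_cons, List.foldl_nil]
      rw [key_eq (hlt i) (hlt j) e ⟨0, by decide⟩, key_eq (hlt i) (hlt j) e ⟨96, by decide⟩,
        key_eq (hlt i) (hlt j) e ⟨524, by decide⟩]
    rcases lt_trichotomy i.val j.val with hij | hij | hij
    · exact absurd hk (keyC_lt hij j.2).ne
    · exact Fin.ext hij
    · exact absurd hk (keyC_lt hij i.2).ne'
  simpa [Subgroup.index] using Nat.card_le_card_of_injective f hf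

theorem yW_reduces :
    reduces mvY ([0] ++ KG.getD 7 [] ++ ([0] ++ KG.getD 7 [])) = true := by decide +kernel

theorem level_letters : checkLetters 8 (K0G.map flK) = true ∧ checkLetters 8 (K1G.map flK) = true ∧
    checkLetters 8 (K2G.map flK) = true := by
  refine ⟨?_, ?_, ?_⟩ <;> decide +kernel

variable {Γ : Type*} [Group Γ] {σ : Γ →* P} {s : Γ} {X : List Γ}

theorem flK_commutes (hX : Frame σ s 1 X) :
    ∀ w : List Nat, ev X (flK w) * fl X 0 = fl X 0 * ev X (flK w) := by
  have hB := hX.braided
  have hK : ∀ u ∈ KG, ev X u * fl X 0 = fl X 0 * ev X u := by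
    intro u hu
    simp only [KG, List.mem_cons, List.not_mem_nil, or_false] at hu
    rcases hu with rfl | rfl | rfl | rfl | rfl | rfl | rfl | rfl
    · simp [ev_cons]
    · simpa [ev_cons] using (hB.comm 0 2 (by decide) (by decide) (by decide) (by decide)).symm
    · simpa [ev_cons] using (hB.comm 0 3 (by decide) (by decide) (by decide) (by decide)).symm
    · simpa [ev_cons] using (hB.comm 0 4 (by decide) (by decide) (by decide) (by decide)).symm
    · simpa [ev_cons] using (hB.comm 0 5 (by decide) (by decide) (by decide) (by decide)).symm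
    · simpa [ev_cons] using (hB.comm 0 6 (by decide) (by decide) (by decide) (by decide)).symm
    · simpa [ev_cons] using (hB.comm 0 7 (by decide) (by decide) (by decide) (by decide)).symm
    have h := ev_of_reduces hB yW_reduces
    have hy : ev X (KG.getD 7 []) * ev X (KG.getD 7 []) = s ^ 13 :=
      ev_mul_rev hB (KG.getD 7 []) (letters_getD conjs_ok.2 7)
    simp only [KG, List.getD_cons_succ, List.getD_cons_zero] at h hy
    rw [List.singleton_append, ev_append, ev_cons] at h
    set y := ev X [1, 2, 6, 3, 2, 1, 0, 1, 2, 3, 6, 2, 1]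
    set x := fl X 0
    have e : x * y * (x * y) = x * x * (y * y) := by
      rw [h, hy, hB.sq 0 (by decide), ← pow_succ']
      rfl
    exact mul_left_cancel (mul_right_cancel (b := y) (calc
      x * (y * x) * y = x * y * (x * y) := by group
      _ = x * x * (y * y) := e
      _ = x * (x * y) * y := by group))
  intro w
  induction w with
  | nil => simp [flK]
  | cons i w ih =>
    rw [show flK (i :: w) = KG.getD i [] ++ flK w from rfl, ev_append, mul_assoc, ih, ← mul_assoc]
    rcases lt_or_ge i KG.length with hi | hi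
    · rw [List.getD_eq_getElem _ _ hi, hK _ (List.getElem_mem hi), mul_assoc]
    · rw [List.getD_eq_default _ _ hi]; simp

/-- The centraliser of a lift covers the centraliser of the transposition. -/
theorem centralizer_covered (hX : Frame σ s 1 X) :
    (Subgroup.centralizer ({fl X 0} : Set Γ)).map σ = Subgroup.centralizer ({t} : Set P) := by
  have := card_le.1
  set S := (Subgroup.centralizer ({fl X 0} : Set Γ)).map σ
  have hle : S ≤ Subgroup.centralizer ({t} : Set P) := by
    rintro _ ⟨g, hg, rfl⟩
    rw [Subgroup.mem_centralizer_singleton_iff]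
    show σ g * fl Lp 0 = fl Lp 0 * σ g
    rw [← hX.img 0 (by decide), ← map_mul, ← map_mul, Subgroup.mem_centralizer_singleton_iff.mp hg]
  have hmem : ∀ G : List (List Nat), ∀ w ∈ G.map flK, ev Lp w ∈ S := by
    intro G w hw
    obtain ⟨v, -, rfl⟩ := List.mem_map.mp hw
    exact ⟨ev X (flK v), Subgroup.mem_centralizer_singleton_iff.mpr (flK_commutes hX v),
      hX.map_ev _⟩
  have h3 : 1 ≤ Nat.card (S ⊓ baseStab ρ [(2331 : Fin 3159), 118, 2524] : Subgroup P) :=
    Nat.card_pos
  have h2 := orbit_step_in matches_ρ S (base := [(2331 : Fin 3159), 118]) (β := 2524) (m := 4)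
    (dm := 2) (gens := K2G.map flK) (P := K2P) (Inv := K2Inv)
    (by decide +kernel) (len_Lp.symm ▸ level_letters.2.2) (by decide +kernel) (hmem _) h3
  have h1 := orbit_step_in matches_ρ S (base := [(2331 : Fin 3159)]) (β := 118) (m := 1260)
    (dm := 11) (gens := K1G.map flK) (P := K1P) (Inv := K1Inv)
    (by decide +kernel) (len_Lp.symm ▸ level_letters.2.1) (by decide +kernel) (hmem _) h2
  have h0 := orbit_step_in matches_ρ S (base := []) (β := 2331) (m := 2592)
    (dm := 12) (gens := K0G.map flK) (P := K0P) (Inv := K0Inv)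
    (by decide +kernel) (len_Lp.symm ▸ level_letters.1) (by decide +kernel) (hmem _) h1
  have e : Nat.card (S ⊓ baseStab ρ ([] : List (Fin 3159)) : Subgroup P) = Nat.card S := by
    simp [baseStab]
  rw [e] at h0
  refine Subgroup.eq_of_le_of_card_ge hle ?_
  have hc := Subgroup.card_mul_index (Subgroup.centralizer ({t} : Set P))
  rw [card_and_injective.1] at hc
  have := Nat.mul_le_mul_left (Nat.card (Subgroup.centralizer ({t} : Set P))) index_centralizer
  omega

theorem lift_fixes (hc : σ.ker ≤ Subgroup.center Γ) (hX : Frame σ s 1 X) {g : Γ}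
    (hg : σ g * t = t * σ g) : g * fl X 0 = fl X 0 * g := by
  obtain ⟨c, hcS, he⟩ : σ g ∈ (Subgroup.centralizer ({fl X 0} : Set Γ)).map σ :=
    centralizer_covered hX ▸ Subgroup.mem_centralizer_singleton_iff.mpr hg
  have hk : c⁻¹ * g ∈ Subgroup.center Γ := hc (by
    rw [MonoidHom.mem_ker, map_mul, map_inv, he, inv_mul_cancel])
  calc g * fl X 0 = c * ((c⁻¹ * g) * fl X 0) := by group
    _ = c * (fl X 0 * (c⁻¹ * g)) := by rw [Subgroup.mem_center_iff.mp hk (fl X 0)]
    _ = (c * fl X 0) * (c⁻¹ * g) := by group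
    _ = fl X 0 * g := by rw [Subgroup.mem_centralizer_singleton_iff.mp hcS]; group

/-- The conjugates of a lift. -/
def Hat (T X : Γ) : Prop := ∃ u : Γ, X = u * T * u⁻¹

theorem Hat.conj {T Y : Γ} (hY : Hat T Y) (u : Γ) : Hat T (u * Y * u⁻¹) := by
  obtain ⟨v, rfl⟩ := hY
  exact ⟨u * v, by group⟩

theorem Hat.sq_eq {T Y : Γ} (hY : Hat T Y) (hT : T * T = s) (hs : ∀ y, y * s = s * y) :
    Y * Y = s := by
  obtain ⟨u, rfl⟩ := hY
  calc u * T * u⁻¹ * (u * T * u⁻¹) = u * (T * T) * u⁻¹ := by group
    _ = s := by rw [hT, hs]; group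

theorem Hat.unique (hc : σ.ker ≤ Subgroup.center Γ) (hX : Frame σ s 1 X) {Y Z : Γ}
    (hY : Hat (fl X 0) Y) (hZ : Hat (fl X 0) Z) (h : σ Y = σ Z) : Y = Z := by
  obtain ⟨a, rfl⟩ := hY
  obtain ⟨b, rfl⟩ := hZ
  have hg : σ (b⁻¹ * a) * t = t * σ (b⁻¹ * a) := by
    show _ * fl Lp 0 = fl Lp 0 * _
    rw [← hX.img 0 (by decide)]
    simp only [map_mul, map_inv] at h ⊢
    calc (σ b)⁻¹ * σ a * σ (fl X 0) = (σ b)⁻¹ * (σ a * σ (fl X 0) * (σ a)⁻¹) * σ a := by group
      _ = σ (fl X 0) * ((σ b)⁻¹ * σ a) := by rw [h]; group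
  have := lift_fixes hc hX hg
  calc a * fl X 0 * a⁻¹ = b * ((b⁻¹ * a) * fl X 0) * a⁻¹ := by group
    _ = b * fl X 0 * b⁻¹ := by rw [this]; group

theorem Hat.comm (hc : σ.ker ≤ Subgroup.center Γ) (hX : Frame σ s 1 X) {Y Z : Γ}
    (hZ : Hat (fl X 0) Z) (h : σ Y * σ Z = σ Z * σ Y) : Y * Z = Z * Y := by
  have he : σ (Y * Z * Y⁻¹) = σ Z := by rw [map_mul, map_mul, map_inv, h]; group
  have := (hZ.conj Y).unique hc hX hZ he
  calc Y * Z = Y * Z * Y⁻¹ * Y := by group
    _ = Z * Y := by rw [this]

theorem hat_fl (hX : Frame σ s 1 X) : ∀ a < 8, Hat (fl X 0) (fl X a) := by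
  have key : ∀ a b, adj8 a b = true → Hat (fl X 0) (fl X a) → Hat (fl X 0) (fl X b) := by
    intro a b h ha
    have e : fl X b = (fl X a * fl X b) * fl X a * (fl X a * fl X b)⁻¹ := by
      calc fl X b = (fl X b * fl X a * fl X b) * (fl X a * fl X b)⁻¹ := by group
        _ = _ := by rw [← hX.braid a b h]
    rw [e]
    exact ha.conj _
  have h0 : Hat (fl X 0) (fl X 0) := ⟨1, by group⟩
  have h1 := key 0 1 (by decide) h0
  have h2 := key 1 2 (by decide) h1
  have h3 := key 2 3 (by decide) h2
  have h4 := key 3 4 (by decide) h3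
  have h5 := key 4 5 (by decide) h4
  have h6 := key 2 6 (by decide) h2
  have h7 := key 6 7 (by decide) h6
  intro a ha
  interval_cases a <;> assumption

theorem hat_tp (hX : Frame σ 1 1 X) {p : List Nat × Nat} (h1 : ∀ l ∈ p.1, l < 8) (h2 : p.2 < 8) :
    Hat (fl X 0) (ev X (tpW p)) := by
  have : ev X (tpW p) = ev X p.1 * fl X p.2 * (ev X p.1)⁻¹ := by
    rw [tpW, ev_append, ev_append, ev_rev_of_sq hX.braided h1, ev_cons, ev_nil, mul_one]
  rw [this]
  exact (hat_fl hX _ h2).conj _

end CfsgLib.Coset.O73.Schur
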