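import Cfsg.Agent.Coset.O73.Schur.Bound
import Cfsg.Agent.Coset.O73.Schur.Triple
import Cfsg.Agent.DMult.OddMult

/-! The multiplier of `PΩ(7, 3)` is cyclic of order six. -/

set_option autoImplicit false
set_option maxRecDepth 100000
set_option Elab.async false

namespace CfsgLib.Coset.O73.Schur

open CfsgLib.Coset O73
open CfsgLib.Quad QuadraticMap

universe u

/-- Change of field for `PΩ`. -/
theorem nonempty_pOmega_ringEquiv {F L : Type*} [Field F] [Field L] (r : F ≃+* L) {ι : Type}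
    [Fintype ι] [DecidableEq ι] (q : (ι → F) → F) (q' : (ι → L) → L)
    (hq : ∀ v : ι → F, q' (fun i => r (v i)) = r (q v)) :
    Nonempty (Cfsg.POmega F q ≃* Cfsg.POmega L q') := by
  let ρ : GL ι F ≃* GL ι L := Units.mapEquiv (RingEquiv.mapMatrix r).toMulEquiv
  have hmv : ∀ (x : GL ι F) (v : ι → F),
      ((ρ x : GL ι L) : Matrix ι ι L).mulVec (fun i => r (v i)) =
        fun i => r ((x : Matrix ι ι F).mulVec v i) := fun x v => by
    funext i
    exact (RingHom.map_mulVec r.toRingHom (x : Matrix ι ι F) v i).symm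
  have hmem : ∀ x, ρ x ∈ Cfsg.isometryGroup L q' ↔ x ∈ Cfsg.isometryGroup F q := by
    intro x
    constructor
    · intro hx v _
      have h0 : q' (((ρ x : GL ι L) : Matrix ι ι L).mulVec fun i => r (v i)) = _ :=
        hx (fun i => r (v i)) (fun i => r (v i))
      simp only [hmv, hq] at h0
      exact r.injective h0
    · intro hx v _
      obtain ⟨u, rfl⟩ : ∃ u : ι → F, (fun i => r (u i)) = v := ⟨fun i => r.symm (v i), by simp⟩
      show q' (Matrix.mulVec ((ρ x : GL ι L) : Matrix ι ι L) fun i => r (u i)) =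
        q' fun i => r (u i)
      rw [hmv, hq, hq]
      exact congrArg r (hx u u)
  let E : Cfsg.isometryGroup F q ≃* Cfsg.isometryGroup L q' :=
    (ρ.subgroupMap _).trans (MulEquiv.subgroupCongr (Subgroup.ext fun y => by
      obtain ⟨x, rfl⟩ := ρ.surjective y
      rw [hmem]
      exact Subgroup.mem_map_iff_mem ρ.injective))
  have hΩ : (Cfsg.Omega F q).map (E : _ →* Cfsg.isometryGroup L q') = Cfsg.Omega L q' := by
    show (commutator _).map _ = commutator _
    rw [commutator_def, commutator_def, Subgroup.map_commutator,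
      Subgroup.map_top_of_surjective _ E.surjective]
  let e := (E.subgroupMap _).trans (MulEquiv.subgroupCongr hΩ)
  have hmap : (Subgroup.center (Cfsg.Omega F q)).map e.toMonoidHom =
      Subgroup.center (Cfsg.Omega L q') := by
    refine le_antisymm ?_ ?_
    · rintro _ ⟨z, hz, rfl⟩
      refine Subgroup.mem_center_iff.2 fun w => ?_
      obtain ⟨v, rfl⟩ := e.surjective w
      show e v * e z = e z * e v
      rw [← map_mul, ← map_mul, Subgroup.mem_center_iff.1 hz]
    · intro w hw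
      obtain ⟨v, rfl⟩ := e.surjective w
      refine ⟨v, Subgroup.mem_center_iff.2 fun u => e.injective ?_, rfl⟩
      rw [map_mul, map_mul, Subgroup.mem_center_iff.1 hw]
  exact ⟨QuotientGroup.congr _ _ e hmap⟩

section Fibre

variable {A B G : Type*} [Group A] [Group B] [Group G] {α : A →* G} {β : B →* G}

/-- Fibre product of two perfect central extensions with kernels of orders two and three. -/
theorem exists_fibre_cover [Finite A] [Finite B] (ha : Function.Surjective α)
    (hb : Function.Surjective β) (hca : α.ker ≤ Subgroup.center A) (hcb : β.ker ≤ Subgroup.center B)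
    (hpa : commutator A = ⊤) (hpb : commutator B = ⊤) (h2 : Nat.card α.ker = 2)
    (h3 : Nat.card β.ker = 3) :
    ∃ (Δ : Subgroup (A × B)) (τ : Δ →* G), Function.Surjective τ ∧ τ.ker ≤ Subgroup.center Δ ∧
      commutator Δ = ⊤ ∧ Nat.card τ.ker = 6 ∧ IsCyclic τ.ker := by
  let Δ : Subgroup (A × B) :=
    (α.comp (MonoidHom.fst A B)).eqLocus (β.comp (MonoidHom.snd A B))
  let p1 : Δ →* A := (MonoidHom.fst A B).comp Δ.subtype
  let p2 : Δ →* B := (MonoidHom.snd A B).comp Δ.subtype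
  have hp1 : Function.Surjective p1 := fun x => by
    obtain ⟨y, hy⟩ := hb (α x)
    exact ⟨⟨(x, y), hy.symm⟩, rfl⟩
  have hp2 : Function.Surjective p2 := fun y => by
    obtain ⟨x, hx⟩ := ha (β y)
    exact ⟨⟨(x, y), hx⟩, rfl⟩
  let τ : Δ →* G := α.comp p1
  have hτ : ∀ g : Δ, τ g = β (p2 g) := fun g => g.2
  have mem : ∀ {g : Δ}, g ∈ τ.ker ↔ p1 g ∈ α.ker ∧ p2 g ∈ β.ker := fun {g} => by
    simp only [MonoidHom.mem_ker]
    exact ⟨fun h => ⟨h, (hτ g).symm.trans h⟩, fun h => h.1⟩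
  have ext2 : ∀ {a b : Δ}, p1 a = p1 b → p2 a = p2 b → a = b := fun h1 h2 =>
    Subtype.ext (Prod.ext h1 h2)
  have hcen : τ.ker ≤ Subgroup.center Δ := fun g hg => by
    obtain ⟨h1, h2⟩ := mem.mp hg
    refine Subgroup.mem_center_iff.mpr fun y => ext2 ?_ ?_
    · rw [map_mul, map_mul]; exact Subgroup.mem_center_iff.mp (hca h1) _
    · rw [map_mul, map_mul]; exact Subgroup.mem_center_iff.mp (hcb h2) _
  have hsurj1 : (commutator Δ).map p1 = ⊤ := by
    rw [_root_.commutator_def, Subgroup.map_commutator, Subgroup.map_top_of_surjective _ hp1,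
      ← _root_.commutator_def, hpa]
  have hsurj2 : (commutator Δ).map p2 = ⊤ := by
    rw [_root_.commutator_def, Subgroup.map_commutator, Subgroup.map_top_of_surjective _ hp2,
      ← _root_.commutator_def, hpb]
  have pw2 : ∀ x ∈ α.ker, x ^ 2 = 1 := fun x hx => by
    have h : (⟨x, hx⟩ : α.ker) ^ Nat.card α.ker = 1 := pow_card_eq_one'
    rw [h2] at h
    exact congrArg Subtype.val h
  have pw3 : ∀ y ∈ β.ker, y ^ 3 = 1 := fun y hy => by
    have h : (⟨y, hy⟩ : β.ker) ^ Nat.card β.ker = 1 := pow_card_eq_one'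
    rw [h3] at h
    exact congrArg Subtype.val h
  have hker : τ.ker ≤ commutator Δ := by
    intro g hg
    obtain ⟨h1, h2'⟩ := mem.mp hg
    obtain ⟨d, hd, ed⟩ := (hsurj1.ge (Subgroup.mem_top (p1 g)) : p1 g ∈ (commutator Δ).map p1)
    obtain ⟨d', hd', ed'⟩ := (hsurj2.ge (Subgroup.mem_top (p2 g)) : p2 g ∈ (commutator Δ).map p2)
    have kd : p2 d ∈ β.ker := (mem.mp (show d ∈ τ.ker from by
      rw [MonoidHom.mem_ker]; show α (p1 d) = 1; rw [ed]; exact MonoidHom.mem_ker.mp h1)).2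
    have kd' : p1 d' ∈ α.ker := (mem.mp (show d' ∈ τ.ker from by
      rw [MonoidHom.mem_ker, hτ, ed']; exact MonoidHom.mem_ker.mp h2')).1
    have : g = d ^ 3 * d' ^ 4 := by
      refine ext2 ?_ ?_
      · rw [map_mul, map_pow, map_pow, ed, show (4 : ℕ) = 2 * 2 from rfl, pow_mul, pw2 _ kd',
          one_pow, mul_one, pow_succ, pw2 _ h1, one_mul]
      · rw [map_mul, map_pow, map_pow, ed', pw3 _ kd, one_mul, pow_succ, pw3 _ h2', one_mul]
    rw [this]
    exact mul_mem (pow_mem hd 3) (pow_mem hd' 4)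
  have hperf : commutator Δ = ⊤ := by
    rw [eq_top_iff]
    intro g _
    obtain ⟨d, hd, ed⟩ := (hsurj1.ge (Subgroup.mem_top (p1 g)) : p1 g ∈ (commutator Δ).map p1)
    rw [show g = d * (d⁻¹ * g) by group]
    refine mul_mem hd (hker ?_)
    rw [MonoidHom.mem_ker]
    show α (p1 (d⁻¹ * g)) = 1
    rw [map_mul, map_inv, ed, inv_mul_cancel, map_one]
  let ke : τ.ker ≃* α.ker × β.ker :=
    { toFun := fun g => (⟨p1 g.1, (mem.mp g.2).1⟩, ⟨p2 g.1, (mem.mp g.2).2⟩)
      invFun := fun p => ⟨⟨(p.1.1, p.2.1), by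
        show α p.1.1 = β p.2.1
        rw [MonoidHom.mem_ker.mp p.1.2, MonoidHom.mem_ker.mp p.2.2]⟩, mem.mpr ⟨p.1.2, p.2.2⟩⟩
      left_inv := fun g => Subtype.ext (ext2 rfl rfl)
      right_inv := fun p => rfl
      map_mul' := fun g h => rfl }
  haveI := fact_prime_two_three.1
  haveI := fact_prime_two_three.2
  haveI : IsCyclic α.ker := isCyclic_of_prime_card h2
  haveI : IsCyclic β.ker := isCyclic_of_prime_card h3
  have hcard : Nat.card τ.ker = 6 := by rw [Nat.card_congr ke.toEquiv, Nat.card_prod, h2, h3]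
  refine ⟨Δ, τ, ha.comp hp1, hcen, hperf, hcard, ?_⟩
  haveI : IsCyclic (α.ker × β.ker) := Group.isCyclic_prod_iff.mpr
    ⟨inferInstance, inferInstance, by rw [h2, h3]; decide⟩
  exact isCyclic_of_surjective ke.symm.toMonoidHom ke.symm.surjective
where
  fact_prime_two_three : Fact (Nat.Prime 2) ∧ Fact (Nat.Prime 3) :=
    ⟨⟨Nat.prime_two⟩, ⟨Nat.prime_three⟩⟩

end Fibre

/-- The multiplier. -/
theorem multiplier {F : Type u} [Field F] [Fintype F] (hF : Fintype.card F = 3) :
    Cfsg.HasCyclicSchurMultiplier (Cfsg.POmega F (Cfsg.quadFormOdd 3 F)) 6 := by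
  have := card_le.1
  let r : ZMod 3 ≃+* F := ZMod.ringEquivOfPrime F Nat.prime_three hF
  obtain ⟨e1⟩ := nonempty_equiv
  obtain ⟨e2⟩ := nonempty_pOmega_ringEquiv r (Cfsg.quadFormOdd 3 (ZMod 3)) (Cfsg.quadFormOdd 3 F)
    fun v => by simp [Cfsg.quadFormOdd]
  let e := e1.trans e2
  have h2 : (2 : F) ≠ 0 := by
    intro h
    have h' : r 2 = r 0 := by rw [map_ofNat, map_zero]; exact h
    exact absurd (r.injective h') (by decide)
  -- the double cover
  rw [← CfsgLib.Quad.oddQ_coe] at e ⊢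
  set Q := oddQ (F := F) 3
  have hQ : (polarBilin Q).Nondegenerate := CfsgLib.Quad.oddQ_nondeg h2 3
  have hfin : 5 ≤ Module.finrank F (Unit ⊕ (Fin 3 ⊕ Fin 3) → F) := by
    rw [CfsgLib.DMult.oddQ_finrank]; norm_num
  have hcen : Subgroup.center ↥(commutator (oGroup Q)) = ⊥ := by
    refine (Subgroup.eq_bot_iff_forall _).2 fun g hg => ?_
    rcases CfsgLib.Quad.center_omega_subset hQ hfin g hg with h | h
    · exact h
    · exact absurd (h ▸ g.2) (CfsgLib.Quad.negIso_notMem_of_odd h2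
        (by rw [CfsgLib.DMult.oddQ_finrank]; exact odd_two_mul_add_one 3))
  let i : Cfsg.POmega F ⇑Q ≃* ↥(commutator (oGroup Q)) :=
    (CfsgLib.Quad.pOmegaEquiv Q).trans
      ((QuotientGroup.quotientMulEquivOfEq hcen).trans QuotientGroup.quotientBot)
  obtain ⟨A, _, _, α0, has, hac, hap, hacard⟩ :=
    CfsgLib.DMult.exists_odd_cover (F := F) (m := 3) le_rfl h2
  let α : A →* P := (i.symm.trans e.symm).toMonoidHom.comp α0
  have hka : α.ker = α0.ker := MonoidHom.ker_mulEquiv_comp α0 (i.symm.trans e.symm)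
  obtain ⟨hbs, hbc, hbcard⟩ := τ3_facts
  obtain ⟨Δ, τ, hs, hc, hp, hcard, hcyc⟩ := exists_fibre_cover (α := α) (β := τ3)
    ((i.symm.trans e.symm).surjective.comp has) hbs (hka.le.trans hac) hbc hap perfect
    (by rw [hka, hacard]) hbcard
  let τ' : Δ →* Cfsg.POmega F ⇑Q := e.toMonoidHom.comp τ
  have hk : τ'.ker = τ.ker := MonoidHom.ker_mulEquiv_comp τ e
  haveI : IsCyclic τ'.ker := hk ▸ hcyc
  refine CfsgLib.DMult.hasSchurMultiplier_of_bound τ' (e.surjective.comp hs) (hk.le.trans hc) hp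
    (fun E _ _ π hπ hπc hE => ?_)
    (mulEquivOfCyclicCardEq (by rw [hk, hcard, Nat.card_congr Multiplicative.toAdd, Nat.card_zmod]))
  let π' : E →* P := e.symm.toMonoidHom.comp π
  have hk' : π'.ker = π.ker := MonoidHom.ker_mulEquiv_comp π e.symm
  have h6 := card_ker_le_six (σ := π') (e.symm.surjective.comp hπ) (hk'.le.trans hπc) hE
  rw [hk, hcard, ← hk']
  exact h6

end CfsgLib.Coset.O73.Schur
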