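import Cfsg.Agent.Coset.O73.Schur.Cent
import Cfsg.Agent.Coset.Fi22.Schur.Data
import Cfsg.Agent.Coset.Fi22.Schur.CoxMoves
import Cfsg.Agent.Coset.Fi22.Schur.CubeMoves
import Cfsg.Agent.Coset.Fi22.Schur.SpiderMoves

/-!
An upper bound for central extensions: the kernel is generated by the sign, of order dividing two,
and the value of the spider relator, of order dividing three modulo the sign.
-/

set_option autoImplicit false
set_option maxRecDepth 100000
set_option Elab.async false

namespace CfsgLib.Coset.O73.Schur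

open CfsgLib.Coset O73

/-- Renumbering of letters from the diagram with nine nodes. -/
def sh (w : List Nat) : List Nat := w.map fun l => l - 1

/-- A transposition of the larger diagram. -/
def tp9 (p : List Nat × Nat) : List Nat := tpW (sh p.1, p.2 - 1)

/-- The transposition after the letter of a translation. -/
def trT (i : Nat) : List Nat × Nat := (Fi22.Schur.trans.getD i (0, [], 0)).2

/-- A translation. -/
def trW (i : Nat) : List Nat := ((Fi22.Schur.trans.getD i (0, [], 0)).1 - 1) :: tp9 (trT i)

/-- A hat of a triangle. -/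
def triW (T : List (List Nat × Nat)) (i : Nat) : List Nat := tp9 (T.getD i ([], 0))

/-- The central translation of a triangle. -/
def rW (T : List (List Nat × Nat)) : List Nat :=
  triW T 0 ++ triW T 1 ++ triW T 2 ++ triW T 1 ++ triW T 0 ++ triW T 2 ++ triW T 0 ++ triW T 1

/-- The third power of a word. -/
def cube (w : List Nat) : List Nat := w ++ (w ++ w)

/-- A power of a word. -/
def rep (w : List Nat) (k : Nat) : List Nat := (List.replicate k w).flatten

/-- The spider word. -/
def spider : List Nat := [2, 1, 0, 2, 3, 4, 2, 6, 7]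

/-- The Coxeter element of the subdiagram of type `E₇`. -/
def coxE : List Nat := [0, 1, 2, 3, 4, 5, 6]

/-- A conjugator inverting the Coxeter element. -/
def kE : List Nat := sh Fi22.Schur.kB

/-- The value of the spider relator in translations. -/
def spiderTgt : List Nat :=
  cube (trW 0) ++ cube (trW 1) ++ rW Fi22.Schur.triA ++ (rW Fi22.Schur.triB).reverse ++
    cube (trW 4).reverse

theorem spider_reduces :
    reduces Fi22.Schur.mvSpider (rep spider 10 ++ spiderTgt.reverse) = true := by decide +kernel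

theorem cubeA_reduces : reduces Fi22.Schur.mvCube
    (cube (rW Fi22.Schur.triA) ++ (cube (trW 2) ++ cube (trW 3).reverse).reverse) = true := by
  decide +kernel

theorem cubeC_reduces : reduces Fi22.Schur.mvCube
    (cube (rW Fi22.Schur.triC) ++ (cube (trW 5) ++ cube (trW 6).reverse).reverse) = true := by
  decide +kernel

theorem coxE_reduces :
    reduces Fi22.Schur.mvCoxB (kE ++ coxE ++ kE.reverse ++ coxE) = true := by decide +kernel

/-- The letters of a transposition are in range. -/
noncomputable def okT (p : List Nat × Nat) : Bool :=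
  cond (checkLetters 8 [sh p.1]) (Nat.ble (Nat.add (p.2 - 1) 1) 8) false

theorem trans_ok : allBelow 3 7 (fun i =>
    cond (Nat.ble (Nat.add ((Fi22.Schur.trans.getD i (0, [], 0)).1 - 1) 1) 8)
      (cond (okT (trT i)) (cond (checkLetters 8 [trW i])
        (sameW (((Fi22.Schur.trans.getD i (0, [], 0)).1 - 1) :: tp9 (trT i) ++
            [(Fi22.Schur.trans.getD i (0, [], 0)).1 - 1])
          (tp9 (trT i) ++ (((Fi22.Schur.trans.getD i (0, [], 0)).1 - 1) :: tp9 (trT i))))
        false) false) false) = true := by decide +kernel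

theorem triC_ok : allBelow 2 3 (fun i => cond (okT (Fi22.Schur.triB.getD i ([], 0)))
    (cond (okT (Fi22.Schur.triC.getD i ([], 0)))
      (sameW (triW Fi22.Schur.triB i) (triW Fi22.Schur.triC i)) false) false) = true := by
  decide +kernel

theorem seven_ok : allList (fun p => cond (checkLetters 8 [p.1]) (cond (Nat.ble (Nat.add p.2 1) 8)
      (allList (fun q => sameW (tpW p ++ tpW q) (tpW q ++ tpW p)) seven) false) false) seven =
        true ∧ sameW (seven.flatMap tpW) [] = true ∧ seven.length = 7 := by
  refine ⟨?_, ?_, ?_⟩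
  · decide +kernel
  · decide +kernel
  · decide +kernel

theorem words_ok : checkLetters 8 [rep spider 10, rep coxE 9, kE, coxE, spiderTgt,
    rW Fi22.Schur.triA, rW Fi22.Schur.triB, rW Fi22.Schur.triC] = true ∧
    (rep spider 10).length = 90 ∧ (rep coxE 9).length = 63 := by
  refine ⟨?_, ?_, ?_⟩ <;> decide +kernel

/-- A braid relator. -/
def isBraid : List Nat → Bool
  | [a, b] => a == b && Nat.blt a 8
  | [a, b, c, d] => a == c && b == d && a != b && !adj8 a b && Nat.blt a 8 && Nat.blt b 8
  | [a, b, c, d, e, f] => a == c && a == e && b == d && b == f && adj8 a b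
  | _ => false

theorem rels_cases :
    rels.all (fun w => isBraid w || w == rep spider 10 || w == rep coxE 9) = true ∧
      rels.contains (rep spider 10) = true ∧ rels.contains (rep coxE 9) = true := by
  refine ⟨?_, ?_, ?_⟩ <;> decide +kernel

variable {Γ : Type*} [Group Γ] {σ : Γ →* P} {X : List Γ}

theorem braid_rel (hB : Braided 1 X) : ∀ w : List Nat, isBraid w = true → ev X w = 1 := by
  intro w h
  unfold isBraid at h
  split at h
  · rename_i a b
    simp only [Bool.and_eq_true, beq_iff_eq, Nat.blt_eq] at h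
    obtain ⟨rfl, ha⟩ := h
    simp only [ev_cons, ev_nil, mul_one]
    exact hB.sq a ha
  · rename_i a b c d
    simp only [Bool.and_eq_true, beq_iff_eq, bne_iff_ne, Bool.not_eq_true', Nat.blt_eq] at h
    obtain ⟨⟨⟨⟨⟨rfl, rfl⟩, hne⟩, hadj⟩, ha⟩, hb⟩ := h
    simp only [ev_cons, ev_nil, mul_one]
    calc fl X a * (fl X b * (fl X a * fl X b))
        = fl X a * (fl X b * (fl X b * fl X a)) := by rw [hB.comm a b ha hb hne hadj]
      _ = fl X a * ((fl X b * fl X b) * fl X a) := by group
      _ = 1 := by rw [hB.sq b hb, one_mul, hB.sq a ha]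
  · rename_i a b c d e f
    simp only [Bool.and_eq_true, beq_iff_eq] at h
    obtain ⟨⟨⟨⟨rfl, rfl⟩, rfl⟩, rfl⟩, hadj⟩ := h
    have hl : a < 8 ∧ b < 8 := by
      rcases adj8_cases hadj with e | e <;>
        simp only [edges8, List.mem_cons, List.not_mem_nil, or_false, Prod.mk.injEq] at e <;> omega
    simp only [ev_cons, ev_nil, mul_one]
    calc fl X a * (fl X b * (fl X a * (fl X b * (fl X a * fl X b))))
        = fl X a * fl X b * fl X a * (fl X b * fl X a * fl X b) := by group
      _ = fl X b * fl X a * fl X b * (fl X b * fl X a * fl X b) := by rw [hB.braid a b hadj]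
      _ = fl X b * fl X a * (fl X b * fl X b) * fl X a * fl X b := by group
      _ = fl X b * (fl X a * fl X a) * fl X b := by rw [hB.sq b hl.2]; group
      _ = 1 := by rw [hB.sq a hl.1, mul_one, hB.sq b hl.2]
  · exact absurd h Bool.false_ne_true

theorem okT_iff {p : List Nat × Nat} (h : okT p = true) :
    (∀ l ∈ sh p.1, l < 8) ∧ p.2 - 1 < 8 := by
  obtain ⟨h1, h2⟩ := cond_false_eq_true.mp h
  exact ⟨letters_lt h1 _ (by simp), Nat.ble_eq.mp h2⟩

theorem ev_cube (w : List Nat) : ev X (cube w) = ev X w * (ev X w * ev X w) := by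
  simp [cube, ev_append]

theorem cube_tr (hc : σ.ker ≤ Subgroup.center Γ) (hX : Frame σ 1 1 X) {i : Nat} (hi : i < 7) :
    ev X (cube (trW i)) = 1 := by
  have hB := hX.braided
  obtain ⟨h1, h2⟩ := cond_false_eq_true.mp (of_allBelow trans_ok i hi)
  obtain ⟨h2, h3⟩ := cond_false_eq_true.mp h2
  obtain ⟨h4, h3⟩ := cond_false_eq_true.mp h3
  rw [ev_cube, trW]
  generalize (Fi22.Schur.trans.getD i (0, [], 0)).1 - 1 = a at h1 h3
  generalize trT i = p at h2 h3
  have hl : a < 8 := Nat.ble_eq.mp h1
  have hH := hat_fl hX a hl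
  have hY : Hat (fl X 0) (ev X (tp9 p)) := hat_tp hX (okT_iff h2).1 (okT_iff h2).2
  have hsqY := hY.sq_eq (hB.sq 0 (by decide)) hB.central
  have hsqA := hB.sq a hl
  have e := sameW_eq h3
  simp only [List.cons_append, ev_append, ev_cons, ev_nil, mul_one] at e
  set y := ev X (tp9 p) with hy
  have hb : fl X a * y * fl X a = y * fl X a * y := by
    have g1 : Hat (fl X 0) (fl X a * y * fl X a) := by
      have := hY.conj (fl X a); rwa [inv_eq_of_mul_eq_one_right hsqA] at this
    have g2 : Hat (fl X 0) (y * fl X a * y) := by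
      have := hH.conj y; rwa [inv_eq_of_mul_eq_one_right hsqY] at this
    refine g1.unique hc hX g2 ?_
    simp only [map_mul, hX.img a hl, hy, hX.map_ev, mul_assoc]
    exact e
  rw [ev_cons, ← hy]
  calc fl X a * y * (fl X a * y * (fl X a * y))
      = fl X a * y * fl X a * (y * fl X a * y) := by group
    _ = y * fl X a * y * (y * fl X a * y) := by rw [hb]
    _ = y * fl X a * (y * y) * fl X a * y := by group
    _ = y * (fl X a * fl X a) * y := by rw [hsqY]; group
    _ = 1 := by rw [hsqA, mul_one, hsqY]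

theorem cube_rev_tr (hc : σ.ker ≤ Subgroup.center Γ) (hX : Frame σ 1 1 X) {i : Nat} (hi : i < 7) :
    ev X (cube (trW i).reverse) = 1 := by
  have hw : ∀ l ∈ trW i, l < 8 := by
    obtain ⟨-, h2⟩ := cond_false_eq_true.mp (of_allBelow trans_ok i hi)
    obtain ⟨-, h3⟩ := cond_false_eq_true.mp h2
    exact letters_lt (cond_false_eq_true.mp h3).1 _ (by simp)
  have h := cube_tr hc hX hi
  rw [ev_cube] at h
  rw [ev_cube, ev_rev_of_sq hX.braided hw]
  calc (ev X (trW i))⁻¹ * ((ev X (trW i))⁻¹ * (ev X (trW i))⁻¹)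
      = (ev X (trW i) * (ev X (trW i) * ev X (trW i)))⁻¹ := by group
    _ = 1 := by rw [h, inv_one]

theorem mul_inv_of_reduces (hB : Braided 1 X) {ms : List (Nat × Nat)} {u v : List Nat}
    (h : reduces ms (u ++ v.reverse) = true) (hv : ∀ l ∈ v, l < 8) : ev X u = ev X v := by
  have h := ev_of_reduces_one hB h
  rwa [ev_append, ev_rev_of_sq hB hv, mul_inv_eq_one] at h

theorem cube_R (hc : σ.ker ≤ Subgroup.center Γ) (hX : Frame σ 1 1 X) {T : List (List Nat × Nat)}
    {i j : Nat} (hi : i < 7) (hj : j < 7)
    (h : reduces Fi22.Schur.mvCube (cube (rW T) ++ (cube (trW i) ++ cube (trW j).reverse).reverse) =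
      true) : ev X (rW T) * (ev X (rW T) * ev X (rW T)) = 1 := by
  have hw : ∀ {k : Nat}, k < 7 → ∀ l ∈ trW k, l < 8 := fun {k} hk => by
    obtain ⟨-, h2⟩ := cond_false_eq_true.mp (of_allBelow trans_ok k hk)
    obtain ⟨-, h3⟩ := cond_false_eq_true.mp h2
    exact letters_lt (cond_false_eq_true.mp h3).1 _ (by simp)
  rw [← ev_cube, mul_inv_of_reduces hX.braided h ?_, ev_append, cube_tr hc hX hi,
    cube_rev_tr hc hX hj, one_mul]
  intro l hl
  simp only [cube, List.mem_append, List.mem_reverse] at hl
  rcases hl with (h | h | h) | h | h | h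
  all_goals first | exact hw hi l h | exact hw hj l h

/-- The value of the spider relator has order dividing three. -/
theorem spider_cube (hc : σ.ker ≤ Subgroup.center Γ) (hX : Frame σ 1 1 X) :
    σ (ev X (rep spider 10)) = 1 ∧ ev X (rep spider 10) ^ 3 = 1 := by
  have hB := hX.braided
  set v := ev X (rep spider 10) with hv
  have hvk : σ v = 1 := by
    rw [hv, hX.map_ev]; exact ev_numGens _ (List.contains_iff_mem.mp rels_cases.2.1)
  refine ⟨hvk, ?_⟩
  have hl := letters_lt words_ok.1
  have h1 : v = ev X spiderTgt := mul_inv_of_reduces hB spider_reduces (hl _ (by simp))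
  rw [spiderTgt, ev_append, ev_append, ev_append, ev_append, cube_tr hc hX (i := 0) (by decide),
    cube_tr hc hX (i := 1) (by decide), cube_rev_tr hc hX (i := 4) (by decide),
    one_mul, one_mul, mul_one, ev_rev_of_sq hB (hl _ (by simp))] at h1
  set R := ev X (rW Fi22.Schur.triA)
  set S := ev X (rW Fi22.Schur.triB)
  have hR : R * (R * R) = 1 := cube_R hc hX (by decide) (by decide) cubeA_reduces
  have hS : S * (S * S) = 1 := by
    have htri : ∀ i < 3, ev X (triW Fi22.Schur.triB i) = ev X (triW Fi22.Schur.triC i) := by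
      intro i hi
      obtain ⟨a, b⟩ := cond_false_eq_true.mp (of_allBelow triC_ok i hi)
      obtain ⟨b, c⟩ := cond_false_eq_true.mp b
      refine (hat_tp hX (okT_iff a).1 (okT_iff a).2).unique hc hX
        (hat_tp hX (okT_iff b).1 (okT_iff b).2) ?_
      rw [hX.map_ev, hX.map_ev]
      exact sameW_eq c
    have e : S = ev X (rW Fi22.Schur.triC) := by
      simp only [S, rW, ev_append, htri 0 (by decide), htri 1 (by decide), htri 2 (by decide)]
    rw [e]
    exact cube_R hc hX (by decide) (by decide) cubeC_reduces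
  have eR : R = v * S := by rw [h1, inv_mul_cancel_right]
  have key : (v * S) ^ 3 = v ^ 3 * S ^ 3 :=
    (show Commute v S from (central_of_ker hc hvk S).symm).mul_pow 3
  rw [← eR, pow_three, pow_three S, hR, hS, mul_one] at key
  exact key.symm

/-- The value of the Coxeter relator has order dividing two. -/
theorem coxeter_sq (hc : σ.ker ≤ Subgroup.center Γ) (hX : Frame σ 1 1 X) :
    σ (ev X (rep coxE 9)) = 1 ∧ ev X (rep coxE 9) * ev X (rep coxE 9) = 1 := by
  have hB := hX.braided
  set v := ev X (rep coxE 9) with hv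
  have hvk : σ v = 1 := by
    rw [hv, hX.map_ev]; exact ev_numGens _ (List.contains_iff_mem.mp rels_cases.2.2)
  refine ⟨hvk, ?_⟩
  have h := ev_of_reduces_one hB coxE_reduces
  rw [ev_append, ev_append, ev_append, ev_rev_of_sq hB (letters_lt words_ok.1 _ (by simp))] at h
  set u := ev X coxE with hu
  set g := ev X kE
  have ev9 : v = u ^ 9 := by rw [hv, rep, ← pow_ev, hu]
  have e : g * u * g⁻¹ = u⁻¹ := eq_inv_of_mul_eq_one_left h
  have hfix : g * v * g⁻¹ = v := by rw [central_of_ker hc hvk g, mul_inv_cancel_right]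
  have : v = v⁻¹ := by
    conv_lhs => rw [← hfix]
    rw [ev9, ← conj_pow, e, inv_pow]
  nth_rewrite 1 [this]
  exact inv_mul_cancel v

theorem prod_sq {s : Γ} (hsc : ∀ y : Γ, y * s = s * y) : ∀ l : List Γ,
    (∀ x ∈ l, x * x = s) → (∀ x ∈ l, ∀ y ∈ l, x * y = y * x) →
      l.prod * l.prod = s ^ l.length
  | [], _, _ => by simp
  | x :: l, h, hc => by
    have hxp : Commute x l.prod :=
      Commute.list_prod_right l x fun y hy => hc x (by simp) y (by simp [hy])
    have ih := prod_sq hsc l (fun y hy => h y (by simp [hy]))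
      (fun y hy z hz => hc y (by simp [hy]) z (by simp [hz]))
    rw [List.prod_cons, List.length_cons, pow_succ']
    calc x * l.prod * (x * l.prod) = x * (l.prod * x) * l.prod := by group
      _ = (x * x) * (l.prod * l.prod) := by rw [← hxp.eq]; group
      _ = s * s ^ l.length := by rw [h x (by simp), ih]

/-- Multiplying all lifts by one central element. -/
theorem Frame.scale {s s' w : Γ} (hX : Frame σ s 1 X) (hw : σ w = 1) (hwc : ∀ y, y * w = w * y)
    (hs' : s * (w * w) = s') :
    Frame σ s' 1 (X.map (· * w)) := by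
  have hfl : ∀ l < 8, fl (X.map (· * w)) l = fl X l * w := by
    intro l hl
    rw [fl, fl, List.getD_eq_getElem _ _ (by simpa [hX.len] using hl),
      List.getD_eq_getElem _ _ (by simpa [hX.len] using hl), List.getElem_map]
  have two : ∀ a b : Γ, a * w * (b * w) = a * b * (w * w) := fun a b => by
    calc a * w * (b * w) = a * (w * b) * w := by group
      _ = a * b * (w * w) := by rw [← hwc b]; group
  have hww : ∀ y, y * (w * w) = w * w * y := fun y =>
    ((show Commute y w from hwc y).mul_right (hwc y)).eq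
  have three : ∀ a b d : Γ, a * w * (b * w) * (d * w) = a * b * d * (w * w * w) := fun a b d => by
    calc a * w * (b * w) * (d * w) = a * b * ((w * w) * d) * w := by rw [two]; group
      _ = a * b * (d * (w * w)) * w := by rw [← hww d]
      _ = a * b * d * (w * w * w) := by group
  subst hs'
  refine ⟨by simp [hX.len], fun l hl => ?_, fun y => ?_, fun y => by simp, ?_, map_one σ,
    one_mul 1, fun a ha => ?_, fun a b h => ?_, fun a b ha hb hne h => ?_⟩
  · rw [hfl l hl, map_mul, hw, mul_one, hX.img l hl]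
  · exact ((show Commute y s from hX.s_central y).mul_right (hww y)).eq
  · rw [map_mul, map_mul, hX.s_mem, hw, one_mul, one_mul]
  · rw [hfl a ha, two, hX.sq a ha]
  · have hl : a < 8 ∧ b < 8 := by
      rcases adj8_cases h with e | e <;>
        simp only [edges8, List.mem_cons, List.not_mem_nil, or_false, Prod.mk.injEq] at e <;> omega
    rw [hfl a hl.1, hfl b hl.2, three, three, hX.braid a b h]
  · rw [hfl a ha, hfl b hb, two, two, one_mul, hX.comm a b ha hb hne h, one_mul]

/-- The lifts can be made involutions. -/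
theorem exists_involutive {s : Γ} (hc : σ.ker ≤ Subgroup.center Γ) (hX : Frame σ s 1 X) :
    ∃ X' : List Γ, Frame σ 1 1 X' := by
  obtain ⟨h7, hprod, hlen⟩ := seven_ok
  let Y : List Nat × Nat → Γ := fun p => ev X p.1 * fl X p.2 * (ev X p.1)⁻¹
  have hlt : ∀ q ∈ seven, q.2 < 8 := fun q hq =>
    Nat.ble_eq.mp (cond_false_eq_true.mp (cond_false_eq_true.mp (allList_iff.mp h7 q hq)).2).1
  have hY : ∀ q ∈ seven, Hat (fl X 0) (Y q) ∧ σ (Y q) = ev Lp (tpW q) := fun q hq => by
    refine ⟨(hat_fl hX q.2 (hlt q hq)).conj _, ?_⟩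
    simp only [Y, map_mul, map_inv, hX.map_ev, hX.img q.2 (hlt q hq), ev_tpW]
  set l := seven.map Y with hl
  have hsq : ∀ x ∈ l, x * x = s := fun x hx => by
    obtain ⟨q, hq, rfl⟩ := List.mem_map.mp hx
    exact (hY q hq).1.sq_eq (hX.sq 0 (by decide)) hX.s_central
  have hcm : ∀ x ∈ l, ∀ y ∈ l, x * y = y * x := fun x hx y hy => by
    obtain ⟨a, ha, rfl⟩ := List.mem_map.mp hx
    obtain ⟨b, hb, rfl⟩ := List.mem_map.mp hy
    refine (hY b hb).1.comm hc hX ?_
    rw [(hY a ha).2, (hY b hb).2, ← ev_append, ← ev_append]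
    exact sameW_eq (allList_iff.mp
      (cond_false_eq_true.mp (cond_false_eq_true.mp (allList_iff.mp h7 a ha)).2).2 b hb)
  have hP : σ l.prod = 1 := by
    have aux : ∀ m : List (List Nat × Nat), (∀ q ∈ m, q ∈ seven) →
        σ (m.map Y).prod = ev Lp (m.flatMap tpW) := by
      intro m
      induction m with
      | nil => intro _; simp
      | cons q m ih =>
        intro h
        rw [List.map_cons, List.prod_cons, map_mul, (hY q (h q (by simp))).2,
          ih (fun x hx => h x (by simp [hx])), List.flatMap_cons, ev_append]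
    rw [hl, aux seven (fun q hq => hq), sameW_eq hprod, ev_nil]
  have h := prod_sq hX.s_central l hsq hcm
  rw [hl, List.length_map, hlen, ← hl] at h
  set p := l.prod with hp
  set w := p * (s ^ 4)⁻¹ with hw
  have hwk : σ w = 1 := by rw [hw, map_mul, map_inv, map_pow, hP, hX.s_mem, one_pow, inv_one, one_mul]
  refine ⟨X.map (· * w), hX.scale hwk (central_of_ker hc hwk) ?_⟩
  have hcp : Commute (s ^ 4)⁻¹ p :=
    ((show Commute s p from (hX.s_central p).symm).pow_left 4).inv_left
  calc s * (w * w) = s * (p * ((s ^ 4)⁻¹ * p) * (s ^ 4)⁻¹) := by rw [hw]; group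
    _ = s * (p * p * ((s ^ 4)⁻¹ * (s ^ 4)⁻¹)) := by rw [hcp.eq]; group
    _ = 1 := by rw [h]; group

/-- Without sign, lifts satisfy all relators up to an element of order dividing three. -/
theorem exists_lifts {s : Γ} (hc : σ.ker ≤ Subgroup.center Γ) (hX : Frame σ s 1 X) :
    ∃ (z : Γ) (X' : List Γ), σ z = 1 ∧ z ^ 3 = 1 ∧ X'.length = 8 ∧
      (∀ l < 8, σ (fl X' l) = fl Lp l) ∧ ∀ w ∈ rels, ev X' w ∈ Subgroup.zpowers z := by
  obtain ⟨X0, h0⟩ := exists_involutive hc hX
  obtain ⟨hvk, hv2⟩ := coxeter_sq hc h0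
  set v := ev X0 (rep coxE 9) with hv
  have hvc := central_of_ker hc hvk
  have h1 : Frame σ 1 1 (X0.map (· * v)) := h0.scale hvk hvc (by rw [hv2, one_mul])
  set X1 := X0.map (· * v)
  have hev : ∀ w : List Nat, (∀ l ∈ w, l < 8) → ev X1 w = ev X0 w * v ^ w.length := by
    intro w
    induction w with
    | nil => intro _; simp
    | cons l w ih =>
      intro h
      have hl : l < X0.length := h0.len ▸ h l (by simp)
      have e : fl X1 l = fl X0 l * v := by
        rw [fl, fl, List.getD_eq_getElem _ _ (by simpa [X1] using hl),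
          List.getD_eq_getElem _ _ hl]
        simp [X1]
      rw [ev_cons, ev_cons, ih fun x hx => h x (by simp [hx]), List.length_cons, pow_succ', e]
      calc fl X0 l * v * (ev X0 w * v ^ w.length) = fl X0 l * (v * ev X0 w) * v ^ w.length := by group
        _ = fl X0 l * ev X0 w * (v * v ^ w.length) := by rw [← hvc (ev X0 w)]; group
  have hE : ev X1 (rep coxE 9) = 1 := by
    rw [hev _ (letters_lt words_ok.1 _ (by simp)), words_ok.2.2, ← hv,
      show (63 : ℕ) = 2 * 31 + 1 from rfl, pow_succ, pow_mul, pow_two, hv2, one_pow, one_mul]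
    exact hv2
  obtain ⟨hzk, hz3⟩ := spider_cube hc h1
  refine ⟨_, X1, hzk, hz3, h1.len, h1.img, fun w hw => ?_⟩
  have h := List.all_eq_true.mp rels_cases.1 w hw
  simp only [Bool.or_eq_true, beq_iff_eq] at h
  rcases h with (h | rfl) | rfl
  · rw [braid_rel h1.braided w h]; exact one_mem _
  · exact Subgroup.mem_zpowers _
  · rw [hE]; exact one_mem _

end CfsgLib.Coset.O73.Schur
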